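import Mathlib

set_option autoImplicit false

/-!
A Brauer–Fowler type count: a finite group with a non-central involution `t` has a
non-identity element `x` with `|X : C(x)| ≤ 2 |C(t)|²`.
-/

namespace Cfsg.Agent.Helper9.InvAut

universe u

section BF

variable {X : Type u} [Group X]

/-- the number of conjugates of `t` times the order of its centralizer is the group order -/
theorem card_conj_mul_card_centralizer [Finite X] (t : X) :
    Nat.card {d : X // IsConj t d} * Nat.card (Subgroup.centralizer ({t} : Set X)) = Nat.card X := by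
  have h1 := Subgroup.card_mul_index (MulAction.stabilizer (ConjAct X) t)
  rw [MulAction.index_stabilizer, ConjAct.orbit_eq_carrier_conjClasses,
    ← Subgroup.nat_card_centralizer_nat_card_stabilizer] at h1
  have h2 : Nat.card (ConjAct X) = Nat.card X := Nat.card_congr (ConjAct.ofConjAct (G := X)).toEquiv
  rw [h2] at h1
  have h3 : (ConjClasses.mk t).carrier = {d : X | IsConj t d} := by
    ext d
    rw [ConjClasses.mem_carrier_iff_mk_eq, ConjClasses.mk_eq_mk_iff_isConj, Set.mem_ofPred_eq]
    exact ⟨fun h => h.symm, fun h => h.symm⟩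
  rw [h3, ← Nat.card_coe_set_eq] at h1
  rw [mul_comm]
  exact h1

theorem card_inverting_le [Finite X] (x : X) :
    Nat.card {d : X // d * x * d⁻¹ = x⁻¹} ≤ Nat.card (Subgroup.centralizer ({x} : Set X)) := by
  by_cases hne : Nonempty {d : X // d * x * d⁻¹ = x⁻¹}
  · obtain ⟨⟨d0, hd0⟩⟩ := hne
    let f : {d : X // d * x * d⁻¹ = x⁻¹} → Subgroup.centralizer ({x} : Set X) := fun d =>
      ⟨d0⁻¹ * d.1, by
        rw [Subgroup.mem_centralizer_iff]
        intro y hy
        rw [Set.mem_singleton_iff] at hy
        subst hy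
        have h1 : d.1 * y = y⁻¹ * d.1 := by
          have := d.2
          calc d.1 * y = d.1 * y * d.1⁻¹ * d.1 := by simp only [mul_assoc, inv_mul_cancel, mul_one]
            _ = y⁻¹ * d.1 := by rw [this]
        have h2 : d0⁻¹ * y⁻¹ = y * d0⁻¹ := by
          have h3 : y⁻¹ = d0 * y * d0⁻¹ := hd0.symm
          rw [h3]; simp only [mul_assoc, inv_mul_cancel_left]
        calc y * (d0⁻¹ * d.1) = (y * d0⁻¹) * d.1 := by rw [mul_assoc]
          _ = d0⁻¹ * y⁻¹ * d.1 := by rw [h2]
          _ = d0⁻¹ * (y⁻¹ * d.1) := by rw [mul_assoc]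
          _ = d0⁻¹ * (d.1 * y) := by rw [h1]
          _ = d0⁻¹ * d.1 * y := by rw [mul_assoc]⟩
    have hf : Function.Injective f := by
      intro a b hab
      have := congrArg Subtype.val hab
      exact Subtype.ext (mul_left_cancel this)
    exact Nat.card_le_card_of_injective f hf
  · rw [not_nonempty_iff] at hne
    rw [Nat.card_of_isEmpty]
    exact Nat.zero_le _

/-- Brauer–Fowler type bound -/
theorem exists_small_class [Finite X] (t : X) (htt : t * t = 1)
    (hnc : t ∉ Subgroup.center X) :
    ∃ x : X, x ≠ 1 ∧ Nat.card X ≤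
      2 * Nat.card (Subgroup.centralizer ({t} : Set X)) ^ 2 *
        Nat.card (Subgroup.centralizer ({x} : Set X)) := by
  classical
  by_contra hcon
  push Not at hcon
  have : Fintype X := Fintype.ofFinite X
  set c := Nat.card (Subgroup.centralizer ({t} : Set X)) with hc
  set D : Finset X := Finset.univ.filter (fun d => IsConj t d) with hD
  set n := D.card with hn
  have hnc' : n * c = Nat.card X := by
    rw [← card_conj_mul_card_centralizer t, hn, hD, Nat.card_eq_fintype_card, Fintype.card_subtype]
  have hcpos : 0 < c := Nat.card_pos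
  -- involutions
  have hsq : ∀ d ∈ D, d * d = 1 := by
    intro d hd
    rw [hD, Finset.mem_filter] at hd
    obtain ⟨g, rfl⟩ := isConj_iff.1 hd.2
    have : (g * t * g⁻¹) * (g * t * g⁻¹) = g * (t * t) * g⁻¹ := by group
    rw [this, htt, mul_one, mul_inv_cancel]
  -- n ≥ 2
  have hn2 : 2 ≤ n := by
    rw [Subgroup.mem_center_iff] at hnc
    push Not at hnc
    obtain ⟨g, hg⟩ := hnc
    have h1 : t ∈ D := by rw [hD, Finset.mem_filter]; exact ⟨Finset.mem_univ _, IsConj.refl t⟩
    have h2 : g * t * g⁻¹ ∈ D := by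
      rw [hD, Finset.mem_filter]; exact ⟨Finset.mem_univ _, isConj_iff.2 ⟨g, rfl⟩⟩
    have h3 : t ≠ g * t * g⁻¹ := by
      intro h
      apply hg
      calc g * t = g * t * g⁻¹ * g := by simp only [mul_assoc, inv_mul_cancel, mul_one]
        _ = t * g := by rw [← h]
    have : ({t, g * t * g⁻¹} : Finset X) ⊆ D := by
      intro y hy
      rw [Finset.mem_insert, Finset.mem_singleton] at hy
      rcases hy with rfl | rfl
      · exact h1
      · exact h2
    have h4 := Finset.card_le_card this
    rw [Finset.card_pair h3] at h4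
    exact h4
  -- the count
  have hcount : (D ×ˢ D).card =
      ∑ x ∈ (Finset.univ : Finset X), ((D ×ˢ D).filter (fun p => p.1 * p.2 = x)).card :=
    Finset.card_eq_sum_card_fiberwise (fun _ _ => Finset.mem_coe.2 (Finset.mem_univ _))
  rw [Finset.card_product] at hcount
  -- fibre over 1
  have hf1 : ((D ×ˢ D).filter (fun p => p.1 * p.2 = 1)).card ≤ n := by
    apply Finset.card_le_card_of_injOn (fun p => p.1)
    · intro p hp
      rw [Finset.mem_coe, Finset.mem_filter, Finset.mem_product] at hp
      exact hp.1.1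
    · intro p hp q hq hpq
      rw [Finset.mem_coe, Finset.mem_filter] at hp hq
      have h1 : p.1 = q.1 := hpq
      have h2 : p.2 = q.2 := by
        have e1 : p.2 = p.1⁻¹ := eq_inv_of_mul_eq_one_right hp.2
        have e2 : q.2 = q.1⁻¹ := eq_inv_of_mul_eq_one_right hq.2
        rw [e1, e2, h1]
      exact Prod.ext h1 h2
  -- fibre over x
  have hfx : ∀ x : X, ((D ×ˢ D).filter (fun p => p.1 * p.2 = x)).card ≤
      Nat.card (Subgroup.centralizer ({x} : Set X)) := by
    intro x
    refine le_trans ?_ (card_inverting_le x)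
    rw [Nat.card_eq_fintype_card, Fintype.card_subtype]
    apply Finset.card_le_card_of_injOn (fun p => p.1)
    · intro p hp
      rw [Finset.mem_coe, Finset.mem_filter, Finset.mem_product] at hp
      rw [Finset.mem_coe, Finset.mem_filter]
      refine ⟨Finset.mem_univ _, ?_⟩
      obtain ⟨⟨hp1, hp2⟩, hpx⟩ := hp
      have e1 : p.1⁻¹ = p.1 := inv_eq_of_mul_eq_one_left (hsq _ hp1)
      have e2 : p.2⁻¹ = p.2 := inv_eq_of_mul_eq_one_left (hsq _ hp2)
      rw [← hpx, mul_inv_rev, e1, e2]
      simp only [mul_assoc]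
      rw [← mul_assoc p.1 p.1, hsq _ hp1, one_mul]
    · intro p hp q hq hpq
      rw [Finset.mem_coe, Finset.mem_filter] at hp hq
      have h1 : p.1 = q.1 := hpq
      have h2 : p.2 = q.2 := by
        have e1 : p.2 = p.1⁻¹ * x := by rw [← hp.2, inv_mul_cancel_left]
        have e2 : q.2 = q.1⁻¹ * x := by rw [← hq.2, inv_mul_cancel_left]
        rw [e1, e2, h1]
      exact Prod.ext h1 h2
  -- split the sum
  have hsplit : n * n ≤ n + ∑ x ∈ (Finset.univ : Finset X).erase 1,
      Nat.card (Subgroup.centralizer ({x} : Set X)) := by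
    rw [hcount, ← Finset.add_sum_erase _ _ (Finset.mem_univ (1 : X))]
    exact Nat.add_le_add hf1 (Finset.sum_le_sum (fun x _ => hfx x))
  -- bound each term
  have hterm : ∑ x ∈ (Finset.univ : Finset X).erase 1,
      2 * c ^ 2 * Nat.card (Subgroup.centralizer ({x} : Set X)) ≤
      ∑ _x ∈ (Finset.univ : Finset X).erase 1, Nat.card X := by
    apply Finset.sum_le_sum
    intro x hx
    exact (hcon x (Finset.ne_of_mem_erase hx)).le
  rw [Finset.sum_const, Finset.card_erase_of_mem (Finset.mem_univ _), Finset.card_univ,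
    ← Nat.card_eq_fintype_card, smul_eq_mul, ← Finset.mul_sum] at hterm
  have hXpos : 0 < Nat.card X := Nat.card_pos
  have h5 : 2 * c ^ 2 * ∑ x ∈ (Finset.univ : Finset X).erase 1,
      Nat.card (Subgroup.centralizer ({x} : Set X)) < Nat.card X * Nat.card X := by
    refine lt_of_le_of_lt hterm ?_
    exact Nat.mul_lt_mul_of_pos_right (Nat.sub_lt hXpos Nat.one_pos) hXpos
  rw [← hnc'] at h5
  set S := ∑ x ∈ (Finset.univ : Finset X).erase 1,
      Nat.card (Subgroup.centralizer ({x} : Set X)) with hS
  have h6 : 2 * c ^ 2 * (n * n) ≤ 2 * c ^ 2 * (n + S) := Nat.mul_le_mul_left _ hsplit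
  have h7 : n * n ≥ 2 * n := by nlinarith
  have hc2 : 0 < c ^ 2 := pow_pos hcpos 2
  nlinarith

end BF

end Cfsg.Agent.Helper9.InvAut
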