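import Mathlib
import Cfsg.Agent.Helper9.GenZipper.InvGraph

set_option autoImplicit false

/-!
Groups generated by a conjugacy class of involutions `t`, and the set `JSet t` of
elements of odd order inverted by `t`.  Basic facts: generation by `t` and `JSet t`
(from `closure_oddNbhd`), lifting of `JSet` through quotients.
-/

namespace Cfsg.Agent.Helper9.InvAut

open Cfsg.Agent.Helper9.GenZipper

universe u

section Defs

variable {Γ : Type u} [Group Γ]

/-- the elements of odd order inverted by `t` -/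
def JSet (t : Γ) : Set Γ := {j | Odd (orderOf j) ∧ t * j * t⁻¹ = j⁻¹}

theorem one_mem_JSet (t : Γ) : (1 : Γ) ∈ JSet t := ⟨by simp, by simp⟩

theorem pow_mem_JSet {t j : Γ} (hj : j ∈ JSet t) (k : ℕ) : j ^ k ∈ JSet t :=
  ⟨Odd.of_dvd_nat hj.1 (orderOf_pow_dvd k), by rw [← conj_pow, hj.2, inv_pow]⟩

theorem inv_eq_self_of_mul_self {t : Γ} (ht : t * t = 1) : t⁻¹ = t :=
  inv_eq_of_mul_eq_one_left ht

/-- conjugating by an element commuting with `t` preserves `JSet t` -/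
theorem conj_mem_JSet {t j c : Γ} (hc : c * t = t * c) (hj : j ∈ JSet t) :
    c * j * c⁻¹ ∈ JSet t := by
  refine ⟨?_, ?_⟩
  · have : orderOf (c * j * c⁻¹) = orderOf j := by
      have h1 : c * j * c⁻¹ = MulAut.conj c j := by rw [MulAut.conj_apply]
      rw [h1, MulEquiv.orderOf_eq]
    rw [this]; exact hj.1
  · have h1 : t * c = c * t := hc.symm
    have h2 : c⁻¹ * t⁻¹ = t⁻¹ * c⁻¹ := by
      rw [← mul_inv_rev, ← mul_inv_rev, hc.symm]
    calc t * (c * j * c⁻¹) * t⁻¹ = (t * c) * j * (c⁻¹ * t⁻¹) := by simp only [mul_assoc]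
      _ = (c * t) * j * (t⁻¹ * c⁻¹) := by rw [h1, h2]
      _ = c * (t * j * t⁻¹) * c⁻¹ := by simp only [mul_assoc]
      _ = c * j⁻¹ * c⁻¹ := by rw [hj.2]
      _ = (c * j * c⁻¹)⁻¹ := by simp only [mul_inv_rev, inv_inv, mul_assoc]

/-- the group is generated by `t` and `JSet t` -/
theorem closure_insert_JSet [Finite Γ] (t : Γ) (ht : t * t = 1)
    (hn : Subgroup.normalClosure {t} = ⊤) :
    Subgroup.closure (insert t (JSet t)) = ⊤ := by
  rw [eq_top_iff, ← closure_oddNbhd t ht hn, Subgroup.closure_le]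
  rintro e ⟨hconj, hodd⟩
  have hti : t⁻¹ = t := inv_eq_self_of_mul_self ht
  have hee : e * e = 1 := by
    obtain ⟨c, rfl⟩ := isConj_iff.1 hconj
    have : (c * t * c⁻¹) * (c * t * c⁻¹) = c * (t * t) * c⁻¹ := by group
    rw [this, ht, mul_one, mul_inv_cancel]
  have hei : e⁻¹ = e := inv_eq_self_of_mul_self hee
  have hJ : t * e ∈ JSet t := by
    refine ⟨hodd, ?_⟩
    rw [mul_inv_rev, hei, hti, ← mul_assoc t t e, ht, one_mul]
  have he : e = t * (t * e) := by rw [← mul_assoc, ht, one_mul]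
  rw [he]
  exact Subgroup.mul_mem _ (Subgroup.subset_closure (Set.mem_insert _ _))
    (Subgroup.subset_closure (Set.mem_insert_of_mem _ hJ))

/-- an element commuting with `t` and with all of `JSet t` is central -/
theorem mem_center_of_commute [Finite Γ] (t : Γ) (ht : t * t = 1)
    (hn : Subgroup.normalClosure {t} = ⊤) (z : Γ) (hzt : z * t = t * z)
    (hzJ : ∀ j ∈ JSet t, z * j = j * z) : z ∈ Subgroup.center Γ := by
  rw [Subgroup.mem_center_iff]
  intro g
  have hg : g ∈ Subgroup.closure (insert t (JSet t)) := by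
    rw [closure_insert_JSet t ht hn]; trivial
  have hcen : Subgroup.closure (insert t (JSet t)) ≤ Subgroup.centralizer {z} := by
    rw [Subgroup.closure_le]
    intro x hx
    rw [SetLike.mem_coe, Subgroup.mem_centralizer_iff]
    intro y hy
    rw [Set.mem_singleton_iff] at hy
    subst hy
    rcases hx with rfl | hx
    · exact hzt
    · exact hzJ x hx
  have := hcen hg
  rw [Subgroup.mem_centralizer_iff] at this
  exact (this z rfl).symm

end Defs

section Quotient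

variable {Γ : Type u} [Group Γ]

theorem mk_mem_JSet (t : Γ) (N : Subgroup Γ) [N.Normal] {j : Γ} (hj : j ∈ JSet t) :
    (j : Γ ⧸ N) ∈ JSet (t : Γ ⧸ N) := by
  refine ⟨Odd.of_dvd_nat hj.1 (orderOf_dvd_of_pow_eq_one ?_), ?_⟩
  · rw [← QuotientGroup.mk_pow, pow_orderOf_eq_one]; rfl
  · rw [← QuotientGroup.mk_inv, ← QuotientGroup.mk_mul, ← QuotientGroup.mk_mul, hj.2,
      QuotientGroup.mk_inv]

/-- odd-order inverted elements of a quotient lift -/
theorem exists_lift_JSet [Finite Γ] (t : Γ) (ht : t * t = 1) (N : Subgroup Γ) [N.Normal]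
    (y : Γ ⧸ N) (hy : y ∈ JSet (t : Γ ⧸ N)) : ∃ j ∈ JSet t, (j : Γ ⧸ N) = y := by
  obtain ⟨y0, rfl⟩ := QuotientGroup.mk_surjective y
  have hti : t⁻¹ = t := inv_eq_self_of_mul_self ht
  obtain ⟨hyodd, hyinv⟩ := hy
  set x : Γ := y0 * t * y0⁻¹ * t⁻¹ with hx
  have hxinv : t * x * t⁻¹ = x⁻¹ := by
    calc t * x * t⁻¹ = t * (y0 * t * y0⁻¹ * t) * t := by rw [hx, hti]
      _ = t * y0 * t * y0⁻¹ * (t * t) := by simp only [mul_assoc]
      _ = t * y0 * t * y0⁻¹ := by rw [ht, mul_one]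
      _ = x⁻¹ := by rw [hx]; simp only [mul_inv_rev, inv_inv, hti, mul_assoc]
  have hxq : (x : Γ ⧸ N) = (y0 : Γ ⧸ N) * (y0 : Γ ⧸ N) := by
    have h1 : (x : Γ ⧸ N) = (y0 : Γ ⧸ N) * ((t : Γ ⧸ N) * (y0 : Γ ⧸ N) * (t : Γ ⧸ N)⁻¹)⁻¹ := by
      rw [hx]
      simp only [QuotientGroup.mk_mul, QuotientGroup.mk_inv, mul_inv_rev, inv_inv, mul_assoc]
    rw [h1, hyinv, inv_inv]
  set n := orderOf (y0 : Γ ⧸ N) with hn
  set c := Nat.card Γ with hc
  set s := ((n + 1) / 2) ^ (c + 1) with hs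
  have hxJ : x ^ (2 ^ c) ∈ JSet t := by
    refine ⟨odd_orderOf_pow_two_pow_card x, ?_⟩
    rw [← conj_pow, hxinv, inv_pow]
  refine ⟨(x ^ (2 ^ c)) ^ s, pow_mem_JSet hxJ s, ?_⟩
  rw [QuotientGroup.mk_pow, QuotientGroup.mk_pow, hxq, ← pow_two, ← pow_mul, ← pow_mul]
  have h2 : 2 * ((n + 1) / 2) = n + 1 := by
    obtain ⟨k, hk⟩ := hyodd
    omega
  have hexp : 2 * (2 ^ c * s) = (n + 1) ^ (c + 1) := by
    rw [← mul_assoc, hs, ← pow_succ', ← mul_pow, h2]
  rw [hexp]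
  have hpow : ∀ k : ℕ, (y0 : Γ ⧸ N) ^ ((n + 1) ^ k) = (y0 : Γ ⧸ N) := by
    intro k
    induction k with
    | zero => simp
    | succ k ih =>
      rw [pow_succ, pow_mul, ih, pow_succ, hn, pow_orderOf_eq_one, one_mul]
  exact hpow (c + 1)

theorem card_JSet_quotient_le [Finite Γ] (t : Γ) (ht : t * t = 1) (N : Subgroup Γ) [N.Normal] :
    Nat.card (JSet (t : Γ ⧸ N)) ≤ Nat.card (JSet t) := by
  let f : JSet t → JSet (t : Γ ⧸ N) := fun j => ⟨(j.1 : Γ ⧸ N), mk_mem_JSet t N j.2⟩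
  have hf : Function.Surjective f := by
    rintro ⟨y, hy⟩
    obtain ⟨j, hj, rfl⟩ := exists_lift_JSet t ht N y hy
    exact ⟨⟨j, hj⟩, rfl⟩
  exact Nat.card_le_card_of_surjective f hf

theorem card_JSet_quotient_lt [Finite Γ] (t : Γ) (ht : t * t = 1) (N : Subgroup Γ) [N.Normal]
    (j j' : Γ) (hj : j ∈ JSet t) (hj' : j' ∈ JSet t) (hne : j ≠ j')
    (heq : (j : Γ ⧸ N) = (j' : Γ ⧸ N)) :
    Nat.card (JSet (t : Γ ⧸ N)) < Nat.card (JSet t) := by
  classical
  let f : JSet t → JSet (t : Γ ⧸ N) := fun j => ⟨(j.1 : Γ ⧸ N), mk_mem_JSet t N j.2⟩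
  have hf : Function.Surjective f := by
    rintro ⟨y, hy⟩
    obtain ⟨j, hj, rfl⟩ := exists_lift_JSet t ht N y hy
    exact ⟨⟨j, hj⟩, rfl⟩
  have hnf : ¬ Function.Injective f := by
    intro hinj
    apply hne
    have : (⟨j, hj⟩ : JSet t) = ⟨j', hj'⟩ := hinj (Subtype.ext heq)
    exact congrArg Subtype.val this
  have : Fintype (JSet t) := Fintype.ofFinite _
  have : Fintype (JSet (t : Γ ⧸ N)) := Fintype.ofFinite _
  rw [Nat.card_eq_fintype_card, Nat.card_eq_fintype_card]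
  exact Fintype.card_lt_of_surjective_not_injective f hf hnf

end Quotient

end Cfsg.Agent.Helper9.InvAut
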