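import Mathlib
import Cfsg.Agent.Helper9.InvAut.Basic

set_option autoImplicit false

/-!
For a group `Γ` with trivial centre generated by the conjugates of an involution `t`:
the centralizer of `t` acts faithfully on `JSet t`; a proper quotient has fewer
odd-order inverted elements; bounds for normal subgroups of odd order or exponent two.
-/

namespace Cfsg.Agent.Helper9.InvAut

universe u

section Growth

variable {Γ : Type u} [Group Γ]

theorem kappa_inverted {t : Γ} (ht : t * t = 1) (v : Γ) :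
    t * (v⁻¹ * (t * v * t⁻¹)) * t⁻¹ = (v⁻¹ * (t * v * t⁻¹))⁻¹ := by
  have hti : t⁻¹ = t := inv_eq_self_of_mul_self ht
  calc t * (v⁻¹ * (t * v * t⁻¹)) * t⁻¹ = t * v⁻¹ * t * v * (t⁻¹ * t⁻¹) := by
        simp only [mul_assoc]
    _ = t * v⁻¹ * t * v := by rw [hti, ht, mul_one]
    _ = (v⁻¹ * (t * v * t⁻¹))⁻¹ := by simp only [mul_inv_rev, inv_inv, hti, mul_assoc]

/-- with trivial centre, `C(t)` embeds in the self-maps of `JSet t` -/
theorem card_centralizer_le [Finite Γ] (t : Γ) (ht : t * t = 1)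
    (hn : Subgroup.normalClosure {t} = ⊤) (hZ : Subgroup.center Γ = ⊥) :
    Nat.card (Subgroup.centralizer ({t} : Set Γ)) ≤
      Nat.card (JSet t) ^ Nat.card (JSet t) := by
  have hcomm : ∀ c : Subgroup.centralizer ({t} : Set Γ), c.1 * t = t * c.1 := by
    intro c
    have := c.2
    rw [Subgroup.mem_centralizer_iff] at this
    exact (this t rfl).symm
  let f : Subgroup.centralizer ({t} : Set Γ) → (JSet t → JSet t) := fun c j =>
    ⟨c.1 * j.1 * c.1⁻¹, conj_mem_JSet (hcomm c) j.2⟩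
  have hf : Function.Injective f := by
    intro a b hab
    have h1 : ∀ j ∈ JSet t, a.1 * j * a.1⁻¹ = b.1 * j * b.1⁻¹ := by
      intro j hj
      have := congrFun hab ⟨j, hj⟩
      exact congrArg Subtype.val this
    have h2 : b.1⁻¹ * a.1 ∈ Subgroup.center Γ := by
      apply mem_center_of_commute t ht hn
      · have ha := hcomm a
        have hb := hcomm b
        have hb' : b.1⁻¹ * t = t * b.1⁻¹ := by
          have : b.1⁻¹ * (b.1 * t) * b.1⁻¹ = b.1⁻¹ * (t * b.1) * b.1⁻¹ := by rw [hb]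
          simpa [mul_assoc] using this.symm
        rw [mul_assoc, ha, ← mul_assoc, hb', mul_assoc]
      · intro j hj
        have := h1 j hj
        calc b.1⁻¹ * a.1 * j = b.1⁻¹ * (a.1 * j * a.1⁻¹) * a.1 := by
              simp only [mul_assoc, inv_mul_cancel, mul_one]
          _ = b.1⁻¹ * (b.1 * j * b.1⁻¹) * a.1 := by rw [this]
          _ = j * (b.1⁻¹ * a.1) := by simp only [mul_assoc, inv_mul_cancel_left]
    rw [hZ, Subgroup.mem_bot] at h2
    apply Subtype.ext
    have : a.1 = b.1 * (b.1⁻¹ * a.1) := by rw [mul_inv_cancel_left]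
    rw [this, h2, mul_one]
  have := Nat.card_le_card_of_injective f hf
  rwa [Nat.card_fun] at this

/-- with trivial centre, every nontrivial normal subgroup absorbs some odd-order inverted
elements: the quotient has fewer of them -/
theorem card_JSet_quotient_lt_of_center_eq_bot [Finite Γ] (t : Γ) (ht : t * t = 1)
    (hn : Subgroup.normalClosure {t} = ⊤) (hZ : Subgroup.center Γ = ⊥)
    (V : Subgroup Γ) [hV : V.Normal] (hV1 : V ≠ ⊥) :
    Nat.card (JSet (t : Γ ⧸ V)) < Nat.card (JSet t) := by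
  have hti : t⁻¹ = t := inv_eq_self_of_mul_self ht
  by_cases hA : ∃ v ∈ V, v ≠ 1 ∧ v * t = t * v
  · -- a nontrivial element of `V` commuting with `t`
    obtain ⟨v, hvV, hv1, hvt⟩ := hA
    have hvc : v ∉ Subgroup.center Γ := by rw [hZ, Subgroup.mem_bot]; exact hv1
    have : ∃ j ∈ JSet t, v * j ≠ j * v := by
      by_contra hcon
      push Not at hcon
      exact hvc (mem_center_of_commute t ht hn v hvt hcon)
    obtain ⟨j, hj, hvj⟩ := this
    refine card_JSet_quotient_lt t ht V j (v * j * v⁻¹) hj (conj_mem_JSet hvt hj) ?_ ?_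
    · intro h
      apply hvj
      calc v * j = v * j * v⁻¹ * v := by simp only [mul_assoc, inv_mul_cancel, mul_one]
        _ = j * v := by rw [← h]
    · rw [QuotientGroup.eq]
      have : j⁻¹ * (v * j * v⁻¹) = (j⁻¹ * v * j⁻¹⁻¹) * v⁻¹ := by simp only [inv_inv, mul_assoc]
      rw [this]
      exact V.mul_mem (hV.conj_mem v hvV j⁻¹) (V.inv_mem hvV)
  · -- no nontrivial element of `V` commutes with `t`
    push Not at hA
    obtain ⟨v, hvV, hv1⟩ := (Subgroup.ne_bot_iff_exists_ne_one).1 hV1 |>.imp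
      (fun v hv => hv) |> fun ⟨v, hv⟩ => (⟨v.1, v.2, fun h => hv (Subtype.ext h)⟩ :
        ∃ v : Γ, v ∈ V ∧ v ≠ 1)
    -- x = v⁻¹ t v t⁻¹
    set x : Γ := v⁻¹ * (t * v * t⁻¹) with hx
    have hxV : x ∈ V := V.mul_mem (V.inv_mem hvV) (hV.conj_mem v hvV t)
    have hxinv : t * x * t⁻¹ = x⁻¹ := kappa_inverted ht v
    have hx1 : x ≠ 1 := by
      intro h
      apply hA v hvV hv1
      have h2 : t * v * t⁻¹ = v := by
        have : v * x = v := by rw [h, mul_one]
        rw [hx, mul_inv_cancel_left] at this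
        exact this
      calc v * t = (t * v * t⁻¹) * t := by rw [h2]
        _ = t * v := by simp only [mul_assoc, inv_mul_cancel, mul_one]
    set y : Γ := x ^ (2 ^ Nat.card Γ) with hy
    have hyV : y ∈ V := V.pow_mem hxV _
    have hyJ : y ∈ JSet t := by
      refine ⟨Cfsg.Agent.Helper9.GenZipper.odd_orderOf_pow_two_pow_card x, ?_⟩
      rw [hy, ← conj_pow, hxinv, inv_pow]
    by_cases hy1 : y = 1
    · -- `x` is a nontrivial 2-element inverted by `t`: its involution commutes with `t`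
      exfalso
      have hdvd : orderOf x ∣ 2 ^ Nat.card Γ := orderOf_dvd_of_pow_eq_one (hy ▸ hy1)
      obtain ⟨a, _, ha⟩ := (Nat.dvd_prime_pow Nat.prime_two).1 hdvd
      have ha1 : a ≠ 0 := by
        intro h0
        rw [h0, pow_zero, orderOf_eq_one_iff] at ha
        exact hx1 ha
      obtain ⟨b, rfl⟩ : ∃ b, a = b + 1 := ⟨a - 1, by omega⟩
      set w : Γ := x ^ (2 ^ b) with hw
      have hwV : w ∈ V := V.pow_mem hxV _
      have hw2 : w * w = 1 := by
        rw [hw, ← pow_add, ← two_mul, ← pow_succ', ← ha, pow_orderOf_eq_one]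
      have hw1 : w ≠ 1 := by
        rw [hw]
        apply pow_ne_one_of_lt_orderOf (by positivity)
        rw [ha]
        exact Nat.pow_lt_pow_right (by norm_num) (Nat.lt_succ_self b)
      have hwinv : t * w * t⁻¹ = w⁻¹ := by rw [hw, ← conj_pow, hxinv, inv_pow]
      have hwi : w⁻¹ = w := inv_eq_self_of_mul_self hw2
      apply hA w hwV hw1
      rw [hwi] at hwinv
      calc w * t = (t * w * t⁻¹) * t := by rw [hwinv]
        _ = t * w := by simp only [mul_assoc, inv_mul_cancel, mul_one]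
    · refine card_JSet_quotient_lt t ht V y 1 hyJ (one_mem_JSet t) hy1 ?_
      rw [QuotientGroup.eq, mul_one]
      exact V.inv_mem hyV

/-- a `t`-invariant subgroup is at most `|C(t)|` times the number of its elements inverted
by `t` -/
theorem card_le_centralizer_mul_inverted [Finite Γ] (t : Γ) (ht : t * t = 1)
    (V : Subgroup Γ) (hVt : ∀ v ∈ V, t * v * t⁻¹ ∈ V) :
    Nat.card V ≤ Nat.card (Subgroup.centralizer ({t} : Set Γ)) *
      Nat.card {x : Γ // x ∈ V ∧ t * x * t⁻¹ = x⁻¹} := by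
  classical
  have hti : t⁻¹ = t := inv_eq_self_of_mul_self ht
  -- κ v = v⁻¹ t v t⁻¹
  have hκ : ∀ v : V, (v.1⁻¹ * (t * v.1 * t⁻¹) ∈ V ∧
      t * (v.1⁻¹ * (t * v.1 * t⁻¹)) * t⁻¹ = (v.1⁻¹ * (t * v.1 * t⁻¹))⁻¹) := by
    intro v
    exact ⟨V.mul_mem (V.inv_mem v.2) (hVt v.1 v.2), kappa_inverted ht v.1⟩
  let κ : V → {x : Γ // x ∈ V ∧ t * x * t⁻¹ = x⁻¹} := fun v =>
    ⟨v.1⁻¹ * (t * v.1 * t⁻¹), hκ v⟩
  -- a section of κ
  let r : {x : Γ // x ∈ V ∧ t * x * t⁻¹ = x⁻¹} → V := fun x =>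
    if h : ∃ v : V, κ v = x then Classical.choose h else 1
  have hr : ∀ v : V, κ (r (κ v)) = κ v := by
    intro v
    have h : ∃ w : V, κ w = κ v := ⟨v, rfl⟩
    show κ (if h : ∃ w : V, κ w = κ v then Classical.choose h else 1) = κ v
    rw [dif_pos h]
    exact Classical.choose_spec h
  have hcent : ∀ v : V, v.1 * (r (κ v)).1⁻¹ ∈ Subgroup.centralizer ({t} : Set Γ) := by
    intro v
    rw [Subgroup.mem_centralizer_iff]
    intro s hs
    rw [Set.mem_singleton_iff] at hs
    subst hs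
    have h1 := congrArg Subtype.val (hr v)
    -- (r)⁻¹ t r t⁻¹ = v⁻¹ t v t⁻¹
    have h2 : (r (κ v)).1⁻¹ * (s * (r (κ v)).1 * s⁻¹) = v.1⁻¹ * (s * v.1 * s⁻¹) := h1
    set w := (r (κ v)).1 with hw
    have h3 : s * (v.1 * w⁻¹) * s⁻¹ = v.1 * w⁻¹ := by
      have e1 : s * (v.1 * w⁻¹) * s⁻¹ = (s * v.1 * s⁻¹) * (s * w * s⁻¹)⁻¹ := by group
      have e2 : s * w * s⁻¹ = w * (v.1⁻¹ * (s * v.1 * s⁻¹)) := by
        rw [← h2, mul_inv_cancel_left]
      rw [e1, e2]
      group
    calc s * (v.1 * w⁻¹) = s * (v.1 * w⁻¹) * s⁻¹ * s := by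
          simp only [mul_assoc, inv_mul_cancel, mul_one]
      _ = v.1 * w⁻¹ * s := by rw [h3]
  let Φ : V → Subgroup.centralizer ({t} : Set Γ) × {x : Γ // x ∈ V ∧ t * x * t⁻¹ = x⁻¹} :=
    fun v => (⟨v.1 * (r (κ v)).1⁻¹, hcent v⟩, κ v)
  have hΦ : Function.Injective Φ := by
    intro a b hab
    have h1 : κ a = κ b := congrArg Prod.snd hab
    have h2 : a.1 * (r (κ a)).1⁻¹ = b.1 * (r (κ b)).1⁻¹ :=
      congrArg Subtype.val (congrArg Prod.fst hab)
    rw [h1] at h2
    exact Subtype.ext (mul_right_cancel h2)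
  have := Nat.card_le_card_of_injective Φ hΦ
  rwa [Nat.card_prod] at this

end Growth

end Cfsg.Agent.Helper9.InvAut
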