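import Mathlib
import Cfsg.Agent.Helper9.InvAut.Growth
import Cfsg.Agent.Helper9.InvAut.BF

set_option autoImplicit false

/-!
The inductive step for groups with trivial centre.
-/

namespace Cfsg.Agent.Helper9.InvAut

universe u

section Core

variable {Γ : Type u} [Group Γ]

/-- the normal core of `C(x)` centralizes the normal closure of `x` -/
theorem commute_normalCore_normalClosure (x : Γ) {k n : Γ}
    (hk : k ∈ (Subgroup.centralizer ({x} : Set Γ)).normalCore)
    (hn : n ∈ Subgroup.normalClosure ({x} : Set Γ)) : k * n = n * k := by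
  have hle : Subgroup.normalClosure ({x} : Set Γ) ≤ Subgroup.centralizer ({k} : Set Γ) := by
    show Subgroup.closure (Group.conjugatesOfSet {x}) ≤ _
    rw [Subgroup.closure_le]
    intro y hy
    rw [Group.mem_conjugatesOfSet_iff] at hy
    obtain ⟨a, ha, hay⟩ := hy
    rw [Set.mem_singleton_iff] at ha
    subst ha
    obtain ⟨g, rfl⟩ := isConj_iff.1 hay
    rw [SetLike.mem_coe, Subgroup.mem_centralizer_iff]
    intro z hz
    rw [Set.mem_singleton_iff] at hz
    subst hz
    -- g⁻¹ z g ∈ C(a)
    have h1 : g⁻¹ * z * g⁻¹⁻¹ ∈ Subgroup.centralizer ({a} : Set Γ) := hk g⁻¹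
    rw [Subgroup.mem_centralizer_iff] at h1
    have h2 := h1 a rfl
    rw [inv_inv] at h2
    -- a * (g⁻¹ z g) = (g⁻¹ z g) * a
    calc z * (g * a * g⁻¹) = g * ((g⁻¹ * z * g) * a) * g⁻¹ := by group
      _ = g * (a * (g⁻¹ * z * g)) * g⁻¹ := by rw [h2]
      _ = g * a * g⁻¹ * z := by group
  have := hle hn
  rw [Subgroup.mem_centralizer_iff] at this
  exact this k rfl

theorem index_normalCore_le_factorial [Finite Γ] (H : Subgroup Γ) :
    H.normalCore.index ≤ H.index.factorial := by
  rw [Subgroup.normalCore_eq_ker, Subgroup.index_ker, Subgroup.index_eq_card, ← Nat.card_perm]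
  exact Nat.card_le_card_of_injective _ Subtype.coe_injective

theorem card_le_index_mul_index [Finite Γ] (K N : Subgroup Γ) [K.Normal] [N.Normal]
    (h : K ⊓ N = ⊥) : Nat.card Γ ≤ K.index * N.index := by
  rw [Subgroup.index_eq_card, Subgroup.index_eq_card, ← Nat.card_prod]
  let f : Γ → (Γ ⧸ K) × (Γ ⧸ N) := fun g => ((g : Γ ⧸ K), (g : Γ ⧸ N))
  apply Nat.card_le_card_of_injective f
  intro a b hab
  have h1 : (a : Γ ⧸ K) = b := congrArg Prod.fst hab
  have h2 : (a : Γ ⧸ N) = b := congrArg Prod.snd hab
  rw [QuotientGroup.eq] at h1 h2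
  have h3 : a⁻¹ * b ∈ K ⊓ N := ⟨h1, h2⟩
  rw [h, Subgroup.mem_bot] at h3
  exact inv_mul_eq_one.1 h3

end Core

section Step

variable (m F' : ℕ)
  (IH : ∀ (Δ : Type u) [Group Δ] [Finite Δ] (s : Δ), s * s = 1 →
    Subgroup.normalClosure {s} = ⊤ → Nat.card (JSet s) ≤ m → Nat.card Δ ≤ F')
  {Γ : Type u} [Group Γ] [Finite Γ] (t : Γ) (ht : t * t = 1)
  (hn : Subgroup.normalClosure {t} = ⊤) (hZ : Subgroup.center Γ = ⊥)
  (hm : Nat.card (JSet t) ≤ m + 1)

include IH ht hn hZ hm

theorem index_le_of_IH (N : Subgroup Γ) [N.Normal] (hN : N ≠ ⊥) : N.index ≤ F' := by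
  rw [Subgroup.index_eq_card]
  apply IH (Γ ⧸ N) (t : Γ ⧸ N)
  · rw [← QuotientGroup.mk_mul, ht]; rfl
  · have h1 := Subgroup.map_normalClosure ({t} : Set Γ) (QuotientGroup.mk' N)
      (QuotientGroup.mk'_surjective N)
    rw [hn, Set.image_singleton] at h1
    have h2 : Subgroup.normalClosure ({(QuotientGroup.mk' N) t} : Set (Γ ⧸ N)) = ⊤ := by
      rw [← h1]
      exact Subgroup.map_top_of_surjective _ (QuotientGroup.mk'_surjective N)
    exact h2
  · have := card_JSet_quotient_lt_of_center_eq_bot t ht hn hZ N hN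
    omega

theorem centerless_bound (hF' : 1 ≤ F') :
    Nat.card Γ ≤ (2 * ((m + 1) ^ (m + 1)) ^ 2).factorial * (m + 2) * F' := by
  classical
  set C := (m + 1) ^ (m + 1) with hC
  set c := Nat.card (Subgroup.centralizer ({t} : Set Γ)) with hc
  have hJpos : 0 < Nat.card (JSet t) := Nat.card_pos_iff.2 ⟨⟨⟨1, one_mem_JSet t⟩⟩, inferInstance⟩
  have hcC : c ≤ C := by
    refine le_trans (card_centralizer_le t ht hn hZ) ?_
    calc Nat.card (JSet t) ^ Nat.card (JSet t) ≤ (m + 1) ^ Nat.card (JSet t) :=
          Nat.pow_le_pow_left hm _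
      _ ≤ (m + 1) ^ (m + 1) := Nat.pow_le_pow_right (Nat.succ_pos m) hm
  have hcpos : 0 < c := Nat.card_pos
  have hCpos : 0 < C := lt_of_lt_of_le hcpos hcC
  have hfac : (2 * c ^ 2).factorial ≤ (2 * C ^ 2).factorial :=
    Nat.factorial_le (Nat.mul_le_mul_left 2 (Nat.pow_le_pow_left hcC 2))
  have hbig : 1 ≤ (2 * C ^ 2).factorial := Nat.succ_le_of_lt (Nat.factorial_pos _)
  have hC2 : C ^ 2 ≤ (2 * C ^ 2).factorial :=
    le_trans (by nlinarith) (Nat.self_le_factorial (2 * C ^ 2))
  have hC1 : C ≤ (2 * C ^ 2).factorial := le_trans (by nlinarith) hC2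
  by_cases htc : t ∈ Subgroup.center Γ
  · -- trivial group
    rw [hZ, Subgroup.mem_bot] at htc
    have htop : (⊤ : Subgroup Γ) = ⊥ := by
      rw [← hn, htc]
      exact Subgroup.normalClosure_eq_bot_iff.2 (le_refl _)
    have : Nat.card Γ = 1 := by
      rw [← Subgroup.card_top (G := Γ), htop, Subgroup.card_bot]
    rw [this]
    have h3 : 1 ≤ (2 * C ^ 2).factorial * (m + 2) :=
      Nat.one_le_iff_ne_zero.2 (Nat.mul_ne_zero (Nat.factorial_pos _).ne' (by omega))
    exact Nat.one_le_iff_ne_zero.2 (Nat.mul_ne_zero (Nat.one_le_iff_ne_zero.1 h3)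
      (Nat.one_le_iff_ne_zero.1 hF'))
  · obtain ⟨x, hx1, hxle⟩ := exists_small_class t ht htc
    set Hx := Subgroup.centralizer ({x} : Set Γ) with hHx
    have hidx : Hx.index ≤ 2 * c ^ 2 := by
      have h1 := Subgroup.card_mul_index Hx
      have hpos : 0 < Nat.card Hx := Nat.card_pos
      rw [← h1] at hxle
      have : Nat.card Hx * Hx.index ≤ Nat.card Hx * (2 * c ^ 2) := by
        calc Nat.card Hx * Hx.index ≤ 2 * c ^ 2 * Nat.card Hx := hxle
          _ = Nat.card Hx * (2 * c ^ 2) := by ring
      exact Nat.le_of_mul_le_mul_left this hpos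
    set K := Hx.normalCore with hK
    have hKidx : K.index ≤ (2 * C ^ 2).factorial :=
      le_trans (index_normalCore_le_factorial Hx) (le_trans (Nat.factorial_le hidx) hfac)
    set N := Subgroup.normalClosure ({x} : Set Γ) with hN
    have hxN : x ∈ N := Subgroup.subset_normalClosure rfl
    have hNbot : N ≠ ⊥ := by
      intro h
      rw [h, Subgroup.mem_bot] at hxN
      exact hx1 hxN
    have hNidx : N.index ≤ F' := index_le_of_IH m F' IH t ht hn hZ hm N hNbot
    by_cases hA : K ⊓ N = ⊥
    · have h1 := card_le_index_mul_index K N hA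
      have key : Nat.card Γ ≤ (2 * C ^ 2).factorial * (m + 2) * F' :=
        calc Nat.card Γ ≤ K.index * N.index := h1
          _ ≤ (2 * C ^ 2).factorial * F' := Nat.mul_le_mul hKidx hNidx
          _ ≤ (2 * C ^ 2).factorial * (m + 2) * F' := by
              apply Nat.mul_le_mul_right
              exact Nat.le_mul_of_pos_right _ (by omega)
      exact key
    · -- a nontrivial abelian normal subgroup
      obtain ⟨a, haA, ha1⟩ : ∃ a ∈ K ⊓ N, a ≠ 1 := by
        by_contra hcon
        push Not at hcon
        apply hA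
        rw [eq_bot_iff]
        intro y hy
        rw [Subgroup.mem_bot]
        exact hcon y hy
      have hcomm : ∀ v ∈ K ⊓ N, ∀ w ∈ K ⊓ N, v * w = w * v := fun v hv w hw =>
        commute_normalCore_normalClosure x hv.1 hw.2
      have hoa : orderOf a ≠ 1 := fun h => ha1 (orderOf_eq_one_iff.1 h)
      set p := (orderOf a).minFac with hp
      have hpp : p.Prime := Nat.minFac_prime hoa
      set b := a ^ (orderOf a / p) with hb
      have hbo : orderOf b = p :=
        orderOf_pow_orderOf_div (orderOf_pos a).ne' (Nat.minFac_dvd _)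
      have hbA : b ∈ K ⊓ N := Subgroup.pow_mem _ haA _
      let V : Subgroup Γ :=
        { carrier := {v | v ∈ K ⊓ N ∧ v ^ p = 1}
          one_mem' := ⟨Subgroup.one_mem _, one_pow _⟩
          mul_mem' := by
            rintro v w ⟨hv, hvp⟩ ⟨hw, hwp⟩
            refine ⟨Subgroup.mul_mem _ hv hw, ?_⟩
            rw [(show Commute v w from hcomm v hv w hw).mul_pow, hvp, hwp, one_mul]
          inv_mem' := by
            rintro v ⟨hv, hvp⟩
            exact ⟨Subgroup.inv_mem _ hv, by rw [inv_pow, hvp, inv_one]⟩ }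
      have hVmem : ∀ v, v ∈ V ↔ (v ∈ K ⊓ N ∧ v ^ p = 1) := fun v => Iff.rfl
      have hVn : V.Normal := by
        constructor
        intro v hv g
        rw [hVmem] at hv ⊢
        refine ⟨(inferInstance : (K ⊓ N).Normal).conj_mem v hv.1 g, ?_⟩
        rw [conj_pow, hv.2, mul_one, mul_inv_cancel]
      have hbV : b ∈ V := by
        rw [hVmem]
        exact ⟨hbA, by rw [← hbo, pow_orderOf_eq_one]⟩
      have hb1 : b ≠ 1 := by
        intro h
        rw [h, orderOf_one] at hbo
        exact hpp.one_lt.ne hbo
      have hVbot : V ≠ ⊥ := by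
        intro h
        rw [h, Subgroup.mem_bot] at hbV
        exact hb1 hbV
      have hVidx : V.index ≤ F' := index_le_of_IH m F' IH t ht hn hZ hm V hVbot
      have hVt : ∀ v ∈ V, t * v * t⁻¹ ∈ V := fun v hv => hVn.conj_mem v hv t
      have hVcard := card_le_centralizer_mul_inverted t ht V hVt
      rw [← hc] at hVcard
      have hVle : Nat.card V ≤ (2 * C ^ 2).factorial * (m + 2) := by
        by_cases hp2 : p = 2
        · -- exponent two: inverted elements are centralized
          have hI : Nat.card {y : Γ // y ∈ V ∧ t * y * t⁻¹ = y⁻¹} ≤ c := by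
            let f : {y : Γ // y ∈ V ∧ t * y * t⁻¹ = y⁻¹} → Subgroup.centralizer ({t} : Set Γ) :=
              fun y => ⟨y.1, by
                rw [Subgroup.mem_centralizer_iff]
                intro s hs
                rw [Set.mem_singleton_iff] at hs
                subst hs
                have h1 : y.1 ^ 2 = 1 := by
                  have := ((hVmem y.1).1 y.2.1).2
                  rwa [hp2] at this
                have h2 : y.1⁻¹ = y.1 := by
                  apply inv_eq_of_mul_eq_one_left
                  rw [← pow_two]; exact h1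
                have h3 := y.2.2
                rw [h2] at h3
                calc s * y.1 = s * y.1 * s⁻¹ * s := by
                      simp only [mul_assoc, inv_mul_cancel, mul_one]
                  _ = y.1 * s := by rw [h3]⟩
            have hf : Function.Injective f := by
              intro y z hyz
              have hv : (f y).1 = (f z).1 := congrArg Subtype.val hyz
              exact Subtype.ext hv
            exact Nat.card_le_card_of_injective f hf
          have key : Nat.card V ≤ (2 * C ^ 2).factorial * (m + 2) :=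
            calc Nat.card V ≤ c * Nat.card {y : Γ // y ∈ V ∧ t * y * t⁻¹ = y⁻¹} := hVcard
              _ ≤ c * c := Nat.mul_le_mul_left _ hI
              _ ≤ C * C := Nat.mul_le_mul hcC hcC
              _ = C ^ 2 := (pow_two C).symm
              _ ≤ (2 * C ^ 2).factorial := hC2
              _ ≤ (2 * C ^ 2).factorial * (m + 2) := Nat.le_mul_of_pos_right _ (by omega)
          exact key
        · -- odd exponent: inverted elements lie in `JSet t`
          have hpodd : Odd p := hpp.odd_of_ne_two hp2
          have hI : Nat.card {y : Γ // y ∈ V ∧ t * y * t⁻¹ = y⁻¹} ≤ m + 1 := by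
            let f : {y : Γ // y ∈ V ∧ t * y * t⁻¹ = y⁻¹} → JSet t :=
              fun y => ⟨y.1, by
                refine ⟨?_, y.2.2⟩
                have h1 : y.1 ^ p = 1 := ((hVmem y.1).1 y.2.1).2
                exact Odd.of_dvd_nat hpodd (orderOf_dvd_of_pow_eq_one h1)⟩
            have hf : Function.Injective f := by
              intro y z hyz
              have hv : (f y).1 = (f z).1 := congrArg Subtype.val hyz
              exact Subtype.ext hv
            exact le_trans (Nat.card_le_card_of_injective f hf) hm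
          have key : Nat.card V ≤ (2 * C ^ 2).factorial * (m + 2) :=
            calc Nat.card V ≤ c * Nat.card {y : Γ // y ∈ V ∧ t * y * t⁻¹ = y⁻¹} := hVcard
              _ ≤ C * (m + 1) := Nat.mul_le_mul hcC hI
              _ ≤ (2 * C ^ 2).factorial * (m + 2) := Nat.mul_le_mul hC1 (by omega)
          exact key
      have key : Nat.card Γ ≤ (2 * C ^ 2).factorial * (m + 2) * F' :=
        calc Nat.card Γ = Nat.card V * V.index := (Subgroup.card_mul_index V).symm
          _ ≤ (2 * C ^ 2).factorial * (m + 2) * F' := Nat.mul_le_mul hVle hVidx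
      exact key

end Step

end Cfsg.Agent.Helper9.InvAut
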