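import Mathlib
import Cfsg.Agent.Helper9.InvAut.Basic

set_option autoImplicit false

/-!
The hypercentre of a group generated by conjugates of an involution `t` centralizes the
odd-order elements inverted by `t`; the quotient by the hypercentre has trivial centre.
-/

namespace Cfsg.Agent.Helper9.InvAut

open scoped commutatorElement

universe u

section Hyper

variable {Γ : Type u} [Group Γ]

theorem pow_two_pow_eq_one_of_inverted (t : Γ) :
    ∀ (k : ℕ) (c : Γ), c ∈ Subgroup.upperCentralSeries Γ k → t * c * t⁻¹ = c⁻¹ →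
      c ^ (2 ^ k) = 1 := by
  intro k
  induction k with
  | zero =>
    intro c hc _
    rw [Subgroup.upperCentralSeries_zero, Subgroup.mem_bot] at hc
    rw [hc, one_pow]
  | succ k ih =>
    intro c hc hinv
    rw [Subgroup.mem_upperCentralSeries_succ_iff] at hc
    have h1 : ⁅c, t⁆ = c ^ 2 := by
      rw [commutatorElement_def, pow_two]
      have : t * c⁻¹ * t⁻¹ = c := by
        have h2 : t * c⁻¹ * t⁻¹ = (t * c * t⁻¹)⁻¹ := by simp only [mul_inv_rev, inv_inv, mul_assoc]
        rw [h2, hinv, inv_inv]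
      calc c * t * c⁻¹ * t⁻¹ = c * (t * c⁻¹ * t⁻¹) := by simp only [mul_assoc]
        _ = c * c := by rw [this]
    have h2 : c ^ 2 ∈ Subgroup.upperCentralSeries Γ k := by rw [← h1]; exact hc t
    have h3 : t * c ^ 2 * t⁻¹ = (c ^ 2)⁻¹ := by rw [← conj_pow, hinv, inv_pow]
    have h4 := ih (c ^ 2) h2 h3
    rw [← pow_mul, ← pow_succ'] at h4
    exact h4

theorem commute_of_mem_upperCentralSeries (t : Γ) :
    ∀ (k : ℕ) (h : Γ), h ∈ Subgroup.upperCentralSeries Γ k → ∀ j ∈ JSet t, h * j = j * h := by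
  intro k
  induction k with
  | zero =>
    intro h hh j _
    rw [Subgroup.upperCentralSeries_zero, Subgroup.mem_bot] at hh
    rw [hh, one_mul, mul_one]
  | succ k ih =>
    intro h hh j hj
    have hh' := hh
    rw [Subgroup.mem_upperCentralSeries_succ_iff] at hh'
    have hhinv : h⁻¹ ∈ Subgroup.upperCentralSeries Γ (k + 1) := Subgroup.inv_mem _ hh
    rw [Subgroup.mem_upperCentralSeries_succ_iff] at hhinv
    -- c = [h, j]
    have hc : ⁅h, j⁆ ∈ Subgroup.upperCentralSeries Γ k := hh' j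
    have hc' : ⁅h⁻¹, t⁆ ∈ Subgroup.upperCentralSeries Γ k := hhinv t
    set c := ⁅h, j⁆ with hcdef
    set c' := ⁅h⁻¹, t⁆ with hc'def
    have hcj : c * j = j * c := ih c hc j hj
    have hc'j : c' * j = j * c' := ih c' hc' j hj
    have hc'ji : c' * j⁻¹ = j⁻¹ * c' := by
      have : j⁻¹ * (c' * j) * j⁻¹ = j⁻¹ * (j * c') * j⁻¹ := by rw [hc'j]
      simpa [mul_assoc] using this.symm
    -- h j h⁻¹ = c j
    have h1 : h * j * h⁻¹ = c * j := by
      rw [hcdef, commutatorElement_def]; simp only [mul_assoc, inv_mul_cancel, mul_one]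
    -- c ^ n = 1
    have hcn : c ^ orderOf j = 1 := by
      have h2 : (c * j) ^ orderOf j = c ^ orderOf j * j ^ orderOf j :=
        (show Commute c j from hcj).mul_pow _
      rw [pow_orderOf_eq_one, mul_one] at h2
      rw [← h2, ← h1, conj_pow, pow_orderOf_eq_one, mul_one, mul_inv_cancel]
    -- t h t⁻¹ = h c'
    have h3 : t * h * t⁻¹ = h * c' := by
      rw [hc'def, commutatorElement_def]; simp only [inv_inv, mul_assoc, mul_inv_cancel_left]
    -- t c t⁻¹ = c⁻¹
    have h4 : t * c * t⁻¹ = c⁻¹ := by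
      have e1 : t * c * t⁻¹ = (t * h * t⁻¹) * (t * j * t⁻¹) * (t * h * t⁻¹)⁻¹ * (t * j * t⁻¹)⁻¹ := by
        rw [hcdef, commutatorElement_def]; group
      rw [e1, h3, hj.2, inv_inv]
      have e2 : h * c' * j⁻¹ * (h * c')⁻¹ * j = h * (c' * j⁻¹) * c'⁻¹ * h⁻¹ * j := by
        simp only [mul_inv_rev, mul_assoc]
      rw [e2, hc'ji]
      have e3 : h * (j⁻¹ * c') * c'⁻¹ * h⁻¹ * j = (h * j * h⁻¹)⁻¹ * j := by
        simp only [mul_inv_rev, inv_inv, mul_assoc, mul_inv_cancel_left]
      rw [e3, h1, mul_inv_rev, mul_assoc]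
      have e4 : c⁻¹ * j = j * c⁻¹ := by
        have : c⁻¹ * (c * j) * c⁻¹ = c⁻¹ * (j * c) * c⁻¹ := by rw [hcj]
        simpa [mul_assoc] using this.symm
      rw [e4, inv_mul_cancel_left]
    have h5 : c ^ (2 ^ k) = 1 := pow_two_pow_eq_one_of_inverted t k c hc h4
    have h6 : c = 1 := by
      have d1 : orderOf c ∣ orderOf j := orderOf_dvd_of_pow_eq_one hcn
      have d2 : orderOf c ∣ 2 ^ k := orderOf_dvd_of_pow_eq_one h5
      have hodd : Odd (orderOf c) := Odd.of_dvd_nat hj.1 d1
      have : orderOf c = 1 := by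
        have hcop : Nat.Coprime (orderOf c) (2 ^ k) :=
          Nat.Coprime.pow_right k (Nat.coprime_two_right.2 hodd)
        exact Nat.Coprime.eq_one_of_dvd hcop d2
      exact orderOf_eq_one_iff.1 this
    rw [h6] at h1
    rw [one_mul] at h1
    calc h * j = h * j * h⁻¹ * h := by simp only [mul_assoc, inv_mul_cancel, mul_one]
      _ = j * h := by rw [h1]

theorem exists_upperCentralSeries_stable [Finite Γ] :
    ∃ k : ℕ, Subgroup.upperCentralSeries Γ (k + 1) = Subgroup.upperCentralSeries Γ k := by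
  by_contra hcon
  push Not at hcon
  have hlt : ∀ k : ℕ, k < Nat.card (Subgroup.upperCentralSeries Γ k) := by
    intro k
    induction k with
    | zero => exact Nat.card_pos
    | succ k ih =>
      have h1 : Subgroup.upperCentralSeries Γ k < Subgroup.upperCentralSeries Γ (k + 1) :=
        lt_of_le_of_ne (Subgroup.upperCentralSeries_mono Γ (Nat.le_succ k)) (hcon k).symm
      have h2 := Cfsg.Agent.Helper1.card_lt_card_of_lt h1
      omega
  have h3 := hlt (Nat.card Γ)
  have h4 := Subgroup.card_le_card_group (Subgroup.upperCentralSeries Γ (Nat.card Γ))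
  omega

theorem center_quotient_upperCentralSeries_eq_bot {k : ℕ}
    (hk : Subgroup.upperCentralSeries Γ (k + 1) = Subgroup.upperCentralSeries Γ k) :
    Subgroup.center (Γ ⧸ Subgroup.upperCentralSeries Γ k) = ⊥ := by
  rw [eq_bot_iff]
  intro x hx
  obtain ⟨x0, rfl⟩ := QuotientGroup.mk_surjective x
  rw [Subgroup.mem_bot, QuotientGroup.eq_one_iff, ← hk, Subgroup.mem_upperCentralSeries_succ_iff]
  intro y
  rw [Subgroup.mem_center_iff] at hx
  have h1 := hx (y : Γ ⧸ Subgroup.upperCentralSeries Γ k)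
  rw [← QuotientGroup.eq_one_iff, commutatorElement_def]
  simp only [QuotientGroup.mk_mul, QuotientGroup.mk_inv]
  rw [← h1]
  simp only [mul_assoc, mul_inv_cancel, mul_one]

end Hyper

end Cfsg.Agent.Helper9.InvAut
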