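import Mathlib
import Cfsg.Agent.Helper9.InvAut.Core
import Cfsg.Agent.Helper9.InvAut.Hyper

set_option autoImplicit false

/-!
A finite group generated by the conjugates of an involution `t` has order bounded in terms of
the number of elements of odd order inverted by `t`.
-/

namespace Cfsg.Agent.Helper9.InvAut

universe u

section Comm

variable {X : Type u} [Group X]

open scoped commutatorElement

theorem commutatorElement_mul_central_left {z : X} (hz : z ∈ Subgroup.center X) (g h : X) :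
    ⁅g * z, h⁆ = ⁅g, h⁆ := by
  rw [Subgroup.mem_center_iff] at hz
  rw [commutatorElement_def, commutatorElement_def, mul_inv_rev]
  calc g * z * h * (z⁻¹ * g⁻¹) * h⁻¹ = g * (z * h) * z⁻¹ * g⁻¹ * h⁻¹ := by group
    _ = g * (h * z) * z⁻¹ * g⁻¹ * h⁻¹ := by rw [hz h]
    _ = g * h * g⁻¹ * h⁻¹ := by group

theorem commutatorElement_mul_central_right {z : X} (hz : z ∈ Subgroup.center X) (g h : X) :
    ⁅g, h * z⁆ = ⁅g, h⁆ := by
  rw [Subgroup.mem_center_iff] at hz
  rw [commutatorElement_def, commutatorElement_def, mul_inv_rev]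
  calc g * (h * z) * g⁻¹ * (z⁻¹ * h⁻¹) = g * h * (z * g⁻¹) * z⁻¹ * h⁻¹ := by group
    _ = g * h * (g⁻¹ * z) * z⁻¹ * h⁻¹ := by rw [hz g⁻¹]
    _ = g * h * g⁻¹ * h⁻¹ := by group

theorem card_commutatorSet_le [Finite X] :
    Nat.card (commutatorSet X) ≤ (Subgroup.center X).index ^ 2 := by
  rw [Subgroup.index_eq_card, pow_two, ← Nat.card_prod]
  let f : (X ⧸ Subgroup.center X) × (X ⧸ Subgroup.center X) → commutatorSet X :=
    fun p => ⟨⁅p.1.out, p.2.out⁆, ⟨_, _, rfl⟩⟩
  apply Nat.card_le_card_of_surjective f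
  rintro ⟨c, g, h, rfl⟩
  refine ⟨((g : X ⧸ Subgroup.center X), (h : X ⧸ Subgroup.center X)), ?_⟩
  apply Subtype.ext
  show ⁅(g : X ⧸ Subgroup.center X).out, (h : X ⧸ Subgroup.center X).out⁆ = ⁅g, h⁆
  obtain ⟨z1, hz1⟩ := QuotientGroup.mk_out_eq_mul (Subgroup.center X) g
  obtain ⟨z2, hz2⟩ := QuotientGroup.mk_out_eq_mul (Subgroup.center X) h
  rw [hz1, hz2, commutatorElement_mul_central_left z1.2, commutatorElement_mul_central_right z2.2]

end Comm

section Main

variable {Γ : Type u} [Group Γ]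

open scoped commutatorElement

theorem inv_mem_JSet {t j : Γ} (hj : j ∈ JSet t) : j⁻¹ ∈ JSet t := by
  refine ⟨by rw [orderOf_inv]; exact hj.1, ?_⟩
  rw [← conj_inv, hj.2]

theorem mul_mem_JSet_of_commute {t a b : Γ} (ha : a ∈ JSet t) (hb : b ∈ JSet t)
    (hab : a * b = b * a) : a * b ∈ JSet t := by
  refine ⟨?_, ?_⟩
  · exact Odd.of_dvd_nat (ha.1.mul hb.1)
      (dvd_trans (Commute.orderOf_mul_dvd_lcm hab) (Nat.lcm_dvd_mul _ _))
  · rw [← conj_mul, ha.2, hb.2, ← mul_inv_rev, hab]

theorem conj_mem_closure_JSet (t : Γ) {g : Γ} (hg : g ∈ Subgroup.closure (JSet t)) :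
    t * g * t⁻¹ ∈ Subgroup.closure (JSet t) := by
  induction hg using Subgroup.closure_induction with
  | mem y hy =>
    rw [hy.2]
    exact Subgroup.subset_closure (inv_mem_JSet hy)
  | one => rw [mul_one, mul_inv_cancel]; exact Subgroup.one_mem _
  | mul a b _ _ ha hb => rw [← conj_mul]; exact Subgroup.mul_mem _ ha hb
  | inv a _ ha => rw [← conj_inv]; exact Subgroup.inv_mem _ ha

variable [Finite Γ] (t : Γ) (ht : t * t = 1) (hn : Subgroup.normalClosure {t} = ⊤)

include ht hn

theorem closure_JSet_normal : (Subgroup.closure (JSet t)).Normal := by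
  rw [← Subgroup.normalizer_eq_top_iff, eq_top_iff, ← closure_insert_JSet t ht hn,
    Subgroup.closure_le]
  intro x hx
  apply Subgroup.mem_normalizer_fintype
  intro n hn'
  obtain rfl | hx := hx
  · exact conj_mem_closure_JSet _ hn'
  · have hxG : x ∈ Subgroup.closure (JSet t) := Subgroup.subset_closure hx
    exact Subgroup.mul_mem _ (Subgroup.mul_mem _ hxG hn') (Subgroup.inv_mem _ hxG)

theorem mem_or_mul_mem_closure_JSet (x : Γ) :
    x ∈ Subgroup.closure (JSet t) ∨ t * x ∈ Subgroup.closure (JSet t) := by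
  have hN : (Subgroup.closure (JSet t)).Normal := closure_JSet_normal t ht hn
  have hx : x ∈ Subgroup.closure (insert t (JSet t)) := by
    rw [closure_insert_JSet t ht hn]; trivial
  induction hx using Subgroup.closure_induction with
  | mem y hy =>
    obtain rfl | hy := hy
    · right; rw [ht]; exact Subgroup.one_mem _
    · left; exact Subgroup.subset_closure hy
  | one => left; exact Subgroup.one_mem _
  | mul a b _ _ ha hb =>
    rcases ha with ha | ha <;> rcases hb with hb | hb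
    · left; exact Subgroup.mul_mem _ ha hb
    · right
      have h1 : t * (a * b) = (t * a * t⁻¹) * (t * b) := by group
      rw [h1]; exact Subgroup.mul_mem _ (hN.conj_mem a ha t) hb
    · right
      rw [← mul_assoc]; exact Subgroup.mul_mem _ ha hb
    · left
      have h1 : a * b = (t⁻¹ * (t * a) * t⁻¹⁻¹) * (t * b) := by
        calc a * b = a * (t * t) * b := by rw [ht, mul_one]
          _ = _ := by group
      rw [h1]; exact Subgroup.mul_mem _ (hN.conj_mem _ ha t⁻¹) hb
  | inv a _ ha =>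
    rcases ha with ha | ha
    · left; exact Subgroup.inv_mem _ ha
    · right
      have h1 : t * a⁻¹ = t * (t * a)⁻¹ * t⁻¹ := by
        calc t * a⁻¹ = t * a⁻¹ * (t * t)⁻¹ := by rw [ht, inv_one, mul_one]
          _ = _ := by group
      rw [h1]; exact hN.conj_mem _ (Subgroup.inv_mem _ ha) t

omit [Finite Γ] ht hn in
theorem mk_mem_JSet_of_mem_closure (N : Subgroup Γ) [N.Normal]
    (hN : ⁅Subgroup.closure (JSet t), Subgroup.closure (JSet t)⁆ ≤ N) {g : Γ}
    (hg : g ∈ Subgroup.closure (JSet t)) : (g : Γ ⧸ N) ∈ JSet (t : Γ ⧸ N) := by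
  induction hg using Subgroup.closure_induction with
  | mem y hy => exact mk_mem_JSet t N hy
  | one => exact one_mem_JSet _
  | mul a b ha hb iha ihb =>
    rw [QuotientGroup.mk_mul]
    apply mul_mem_JSet_of_commute iha ihb
    rw [← QuotientGroup.mk_mul, ← QuotientGroup.mk_mul, QuotientGroup.eq]
    apply hN
    have h1 : (a * b)⁻¹ * (b * a) = ⁅b⁻¹, a⁻¹⁆ := by rw [commutatorElement_def]; group
    rw [h1]
    exact Subgroup.commutator_mem_commutator (Subgroup.inv_mem _ hb) (Subgroup.inv_mem _ ha)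
  | inv a _ iha => rw [QuotientGroup.mk_inv]; exact inv_mem_JSet iha

theorem card_quotient_le (N : Subgroup Γ) [N.Normal]
    (hN : ⁅Subgroup.closure (JSet t), Subgroup.closure (JSet t)⁆ ≤ N) :
    Nat.card (Γ ⧸ N) ≤ 2 * Nat.card (JSet (t : Γ ⧸ N)) := by
  have hc : Nat.card (Bool × JSet (t : Γ ⧸ N)) = 2 * Nat.card (JSet (t : Γ ⧸ N)) := by
    rw [Nat.card_prod, Nat.card_eq_fintype_card, Fintype.card_bool]
  rw [← hc]
  apply Nat.card_le_card_of_surjective
    (fun p : Bool × JSet (t : Γ ⧸ N) => (if p.1 then (t : Γ ⧸ N) else 1) * p.2.1)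
  intro y
  obtain ⟨x, rfl⟩ := QuotientGroup.mk_surjective y
  rcases mem_or_mul_mem_closure_JSet t ht hn x with hx | hx
  · refine ⟨(false, ⟨(x : Γ ⧸ N), mk_mem_JSet_of_mem_closure t N hN hx⟩), ?_⟩
    show (if false then (t : Γ ⧸ N) else 1) * (x : Γ ⧸ N) = x
    simp
  · refine ⟨(true, ⟨((t * x : Γ) : Γ ⧸ N), mk_mem_JSet_of_mem_closure t N hN hx⟩), ?_⟩
    show (if true then (t : Γ ⧸ N) else 1) * ((t * x : Γ) : Γ ⧸ N) = x
    rw [if_pos rfl, ← QuotientGroup.mk_mul, ← mul_assoc, ht, one_mul]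

omit [Finite Γ] ht hn in
theorem index_center_closure_JSet_le [Finite Γ] (k : ℕ) :
    (Subgroup.center ↥(Subgroup.closure (JSet t))).index ≤
      Nat.card (Γ ⧸ Subgroup.upperCentralSeries Γ k) := by
  set G := Subgroup.closure (JSet t) with hG
  let φ : ↥G →* Γ ⧸ Subgroup.upperCentralSeries Γ k := (QuotientGroup.mk' _).comp G.subtype
  have hker : φ.ker ≤ Subgroup.center ↥G := by
    intro g hg
    rw [MonoidHom.mem_ker] at hg
    have hgH : (g : Γ) ∈ Subgroup.upperCentralSeries Γ k := by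
      have h1 : ((g : Γ) : Γ ⧸ Subgroup.upperCentralSeries Γ k) = 1 := hg
      rwa [QuotientGroup.eq_one_iff] at h1
    rw [Subgroup.mem_center_iff]
    intro x
    apply Subtype.ext
    rw [Subgroup.coe_mul, Subgroup.coe_mul]
    have hle : G ≤ Subgroup.centralizer ({(g : Γ)} : Set Γ) := by
      show Subgroup.closure (JSet t) ≤ _
      rw [Subgroup.closure_le]
      intro j hj
      rw [SetLike.mem_coe, Subgroup.mem_centralizer_iff]
      intro s hs
      rw [Set.mem_singleton_iff] at hs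
      rw [hs]
      exact commute_of_mem_upperCentralSeries t k _ hgH j hj
    have h2 := hle x.2
    rw [Subgroup.mem_centralizer_iff] at h2
    exact (h2 _ rfl).symm
  calc (Subgroup.center ↥G).index ≤ φ.ker.index :=
        Nat.le_of_dvd (Nat.pos_of_ne_zero Subgroup.index_ne_zero_of_finite)
          (Subgroup.index_dvd_of_le hker)
    _ = Nat.card φ.range := Subgroup.index_ker φ
    _ ≤ Nat.card (Γ ⧸ Subgroup.upperCentralSeries Γ k) :=
        Nat.card_le_card_of_injective _ Subtype.coe_injective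

omit ht hn in
theorem card_derived_closure_JSet_le (b : ℕ)
    (hb : (Subgroup.center ↥(Subgroup.closure (JSet t))).index ≤ b) :
    Nat.card ↥⁅Subgroup.closure (JSet t), Subgroup.closure (JSet t)⁆ ≤ b ^ (b * b ^ 2 + 1) := by
  set G := Subgroup.closure (JSet t) with hG
  have h1 := Subgroup.card_commutator_dvd_index_center_pow ↥G
  have h2 : Nat.card ↥⁅G, G⁆ = Nat.card ↥(commutator ↥G) := by
    rw [← Subgroup.map_subtype_commutator, Subgroup.card_map_of_injective G.subtype_injective]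
  rw [h2]
  set idx := (Subgroup.center ↥G).index with hidx
  have hidx0 : 0 < idx := Nat.pos_of_ne_zero Subgroup.index_ne_zero_of_finite
  have hb0 : 0 < b := lt_of_lt_of_le hidx0 hb
  have hcs : Nat.card (commutatorSet ↥G) ≤ idx ^ 2 := card_commutatorSet_le
  calc Nat.card ↥(commutator ↥G) ≤ idx ^ (idx * Nat.card (commutatorSet ↥G) + 1) :=
        Nat.le_of_dvd (Nat.pos_of_ne_zero (pow_ne_zero _ hidx0.ne')) h1
    _ ≤ idx ^ (idx * idx ^ 2 + 1) :=
        Nat.pow_le_pow_right hidx0 (Nat.add_le_add_right (Nat.mul_le_mul_left _ hcs) 1)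
    _ ≤ b ^ (idx * idx ^ 2 + 1) := Nat.pow_le_pow_left hb _
    _ ≤ b ^ (b * b ^ 2 + 1) :=
        Nat.pow_le_pow_right hb0
          (Nat.add_le_add_right (Nat.mul_le_mul hb (Nat.pow_le_pow_left hb 2)) 1)

omit [Finite Γ] ht in
theorem normalClosure_mk_eq_top (N : Subgroup Γ) [N.Normal] :
    Subgroup.normalClosure ({(t : Γ ⧸ N)} : Set (Γ ⧸ N)) = ⊤ := by
  have h1 := Subgroup.map_normalClosure ({t} : Set Γ) (QuotientGroup.mk' N)
    (QuotientGroup.mk'_surjective N)
  rw [hn, Set.image_singleton] at h1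
  have h2 : Subgroup.normalClosure ({(QuotientGroup.mk' N) t} : Set (Γ ⧸ N)) = ⊤ := by
    rw [← h1]
    exact Subgroup.map_top_of_surjective _ (QuotientGroup.mk'_surjective N)
  exact h2

end Main

/-- the bound obtained in the inductive step -/
def stepBound (m F' : ℕ) : ℕ :=
  ((2 * ((m + 1) ^ (m + 1)) ^ 2).factorial * (m + 2) * F') ^
    (((2 * ((m + 1) ^ (m + 1)) ^ 2).factorial * (m + 2) * F') *
      ((2 * ((m + 1) ^ (m + 1)) ^ 2).factorial * (m + 2) * F') ^ 2 + 1) * (2 * (m + 1))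

section Step

variable (m F' : ℕ)
  (IH : ∀ (Δ : Type u) [Group Δ] [Finite Δ] (s : Δ), s * s = 1 →
    Subgroup.normalClosure {s} = ⊤ → Nat.card (JSet s) ≤ m → Nat.card Δ ≤ F')
  {Γ : Type u} [Group Γ] [Finite Γ] (t : Γ) (ht : t * t = 1)
  (hn : Subgroup.normalClosure {t} = ⊤) (hm : Nat.card (JSet t) ≤ m + 1)

include IH ht hn hm

theorem card_le_stepBound (hF' : 1 ≤ F') : Nat.card Γ ≤ stepBound m F' := by
  obtain ⟨k, hk⟩ := exists_upperCentralSeries_stable (Γ := Γ)
  set b := (2 * ((m + 1) ^ (m + 1)) ^ 2).factorial * (m + 2) * F' with hb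
  have ht' : ((t : Γ) : Γ ⧸ Subgroup.upperCentralSeries Γ k) * (t : Γ) = 1 := by
    rw [← QuotientGroup.mk_mul, ht]; rfl
  have hB1 : Nat.card (Γ ⧸ Subgroup.upperCentralSeries Γ k) ≤ b :=
    centerless_bound m F' IH (t : Γ ⧸ Subgroup.upperCentralSeries Γ k) ht'
      (normalClosure_mk_eq_top t hn _) (center_quotient_upperCentralSeries_eq_bot hk)
      (le_trans (card_JSet_quotient_le t ht _) hm) hF'
  have hidx := le_trans (index_center_closure_JSet_le t k) hB1
  have hD := card_derived_closure_JSet_le t b hidx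
  have hGn : (Subgroup.closure (JSet t)).Normal := closure_JSet_normal t ht hn
  have hQ := card_quotient_le t ht hn ⁅Subgroup.closure (JSet t), Subgroup.closure (JSet t)⁆
    (le_refl _)
  have hQ2 : Nat.card (Γ ⧸ ⁅Subgroup.closure (JSet t), Subgroup.closure (JSet t)⁆) ≤
      2 * (m + 1) :=
    le_trans hQ (Nat.mul_le_mul_left 2 (le_trans (card_JSet_quotient_le t ht _) hm))
  have key : Nat.card Γ ≤ b ^ (b * b ^ 2 + 1) * (2 * (m + 1)) := by
    rw [← Subgroup.card_mul_index ⁅Subgroup.closure (JSet t), Subgroup.closure (JSet t)⁆,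
      Subgroup.index_eq_card]
    exact Nat.mul_le_mul hD hQ2
  exact key

end Step

/-- the bounding function -/
def Fbound : ℕ → ℕ
  | 0 => 1
  | (m + 1) => stepBound m (Fbound m) + 1

theorem one_le_Fbound (m : ℕ) : 1 ≤ Fbound m := by
  cases m with
  | zero => exact le_refl _
  | succ m => exact Nat.le_add_left 1 _

theorem card_le_Fbound (m : ℕ) : ∀ (Γ : Type u) [Group Γ] [Finite Γ] (t : Γ), t * t = 1 →
    Subgroup.normalClosure {t} = ⊤ → Nat.card (JSet t) ≤ m → Nat.card Γ ≤ Fbound m := by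
  induction m with
  | zero =>
    intro Γ _ _ t _ _ hm
    have hJpos : 0 < Nat.card (JSet t) :=
      Nat.card_pos_iff.2 ⟨⟨⟨1, one_mem_JSet t⟩⟩, inferInstance⟩
    omega
  | succ m ih =>
    intro Γ _ _ t ht hn hm
    exact le_trans (card_le_stepBound m (Fbound m) ih t ht hn hm (one_le_Fbound m))
      (Nat.le_succ _)

end Cfsg.Agent.Helper9.InvAut
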