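import Mathlib
import Cfsg.Agent.Helper9.InvAut.Main
import Cfsg.Agent.Helper9.GenZipper.AutIter

set_option autoImplicit false

/-!
Transfer of the bound to an involutory automorphism `α` with `[G, α] = G`.
-/

namespace Cfsg.Agent.Helper9.InvAut

open SemidirectProduct Cfsg.Agent.Helper9.GenZipper

universe u

section Transfer

variable {G : Type u} [Group G] (α : MulAut G)

theorem autHat_mul_self (hα : orderOf α = 2) : autHat α * autHat α = 1 := by
  unfold autHat
  rw [← map_mul]
  have h1 : ((⟨α, Subgroup.mem_zpowers α⟩ : ↥(Subgroup.zpowers α)) *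
      ⟨α, Subgroup.mem_zpowers α⟩) = 1 := by
    apply Subtype.ext
    rw [Subgroup.coe_mul, Subgroup.coe_one]
    show α * α = 1
    rw [← pow_two, ← hα, pow_orderOf_eq_one]
  rw [h1, map_one]

theorem autHat_conj_inl (g : G) :
    autHat α * (inl g : AutSd α) * (autHat α)⁻¹ = inl (α g) := by
  unfold autHat
  rw [← map_inv]
  exact (inl_aut (φ := (Subgroup.zpowers α).subtype) ⟨α, Subgroup.mem_zpowers α⟩ g).symm

theorem right_eq_one_of_odd (hα : orderOf α = 2) (x : AutSd α) (hx : Odd (orderOf x)) :
    x.right = 1 := by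
  have h1 : orderOf x.right ∣ orderOf x := by
    have := orderOf_map_dvd (rightHom : AutSd α →* ↥(Subgroup.zpowers α)) x
    exact this
  have h2 : orderOf x.right ∣ 2 := by
    have h3 := orderOf_dvd_natCard x.right
    rwa [Nat.card_zpowers, hα] at h3
  have h4 : Odd (orderOf x.right) := Odd.of_dvd_nat hx h1
  rcases (Nat.dvd_prime Nat.prime_two).1 h2 with h5 | h5
  · exact orderOf_eq_one_iff.1 h5
  · rw [h5] at h4
    exact absurd h4 (by decide)

theorem card_JSet_autHat_le [Finite G] (hα : orderOf α = 2) :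
    Nat.card (JSet (autHat α)) ≤ Nat.card {g : G // Odd (orderOf g) ∧ α g = g⁻¹} := by
  have hfin : Finite (AutSd α) := autSd_finite α
  have hx : ∀ x ∈ JSet (autHat α), x = inl x.left := by
    intro x hx
    have h1 := right_eq_one_of_odd α hα x hx.1
    have h2 := inl_left_mul_inr_right x
    rw [h1, map_one, mul_one] at h2
    exact h2.symm
  have hmem : ∀ x ∈ JSet (autHat α), Odd (orderOf x.left) ∧ α x.left = x.left⁻¹ := by
    intro x hxJ
    have h1 := hx x hxJ
    refine ⟨?_, ?_⟩
    · have h2 : orderOf (inl x.left : AutSd α) = orderOf x.left :=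
        orderOf_injective (inl : G →* AutSd α) inl_injective x.left
      rw [← h2, ← h1]
      exact hxJ.1
    · have h2 := hxJ.2
      rw [h1, autHat_conj_inl, ← map_inv] at h2
      exact inl_injective h2
  let f : JSet (autHat α) → {g : G // Odd (orderOf g) ∧ α g = g⁻¹} :=
    fun x => ⟨x.1.left, hmem x.1 x.2⟩
  apply Nat.card_le_card_of_injective f
  intro x y hxy
  have h1 : x.1.left = y.1.left := congrArg Subtype.val hxy
  apply Subtype.ext
  rw [hx x.1 x.2, hx y.1 y.2, h1]

theorem card_le_Fbound_of_aut [Finite G] (hα : orderOf α = 2)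
    (hcl : Subgroup.closure (Set.range (fun c : G => c * (α c)⁻¹)) = ⊤) :
    Nat.card G ≤ Fbound (Nat.card {g : G // Odd (orderOf g) ∧ α g = g⁻¹}) := by
  have hfin : Finite (AutSd α) := autSd_finite α
  have h1 : Nat.card G ≤ Nat.card (AutSd α) :=
    Nat.card_le_card_of_injective (inl : G → AutSd α) inl_injective
  refine le_trans h1 ?_
  exact card_le_Fbound _ (AutSd α) (autHat α) (autHat_mul_self α hα)
    (normalClosure_autHat α (fun c : G => c * (α c)⁻¹) (fun _ => rfl) hcl)
    (card_JSet_autHat_le α hα)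

end Transfer

end Cfsg.Agent.Helper9.InvAut
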